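import Groth.Agent.Lib.Mero.DivTensor
import Groth.Agent.Lib.MeroCurve.Basic
import Groth.Agent.Lib.Euler.TensorSupport
import Groth.Agent.Lib.Euler.Section
import Groth.Agent.Lib.Euler.Divisor
import Groth.Agent.S5096

/-!
# Effective divisors on curves: the canonical section and its cokernel
-/

set_option autoImplicit false
set_option linter.all false
set_option backward.isDefEq.respectTransparency false
set_option maxHeartbeats 1000000

universe u

open CategoryTheory CategoryTheory.Limits AlgebraicGeometry TopologicalSpace Opposite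
open GrothLib.Euler (tF)
open GrothLib.QCoh (stalkLin)

noncomputable section

namespace GrothLib.DivCurve2

open GrothLib.Mero

variable {X : Scheme.{u}}

theorem divCond_algebraMap {E : Mero.Divisor X} (hE : Mero.IsEffective E) (y : X) (r : X.presheaf.stalk y) :
    Mero.DivCond E y (algebraMap (X.presheaf.stalk y) (Mero.KStalk X y) r) := by
  obtain ⟨a, ha⟩ := hE y
  rw [divCond_iff ha]
  exact mul_mem ⟨r, rfl⟩ ⟨(a : X.presheaf.stalk y), rfl⟩

/-- The section `1` of `O_X(E)`. -/
def oneHom {E : Mero.Divisor X} (hE : Mero.IsEffective E) : Coh.structureModule X ⟶ Mero.divMod E :=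
  ⟨PresheafOfModules.homMk (M₁ := (Coh.structureModule X).val) (M₂ := (Mero.divMod E).val)
    { app := fun U => AddCommGrpCat.ofHom
        { toFun := fun (r : Γ(X, U.unop)) => (⟨(Mero.toK X U.unop r).1, (Mero.toK X U.unop r).2, fun y => by
            rw [toK_apply_eq]; exact divCond_algebraMap hE _ _⟩ : Γ(Mero.divMod E, U.unop))
          map_zero' := Subtype.ext (show (Mero.toK X U.unop 0).1 = _ from
            (congrArg (fun z : Γ(Mero.kmod X, U.unop) => z.1) (map_zero (Mero.toK X U.unop))).trans rfl)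
          map_add' := fun a b => Subtype.ext (show (Mero.toK X U.unop (a + b)).1 = _ from
            (congrArg (fun z : Γ(Mero.kmod X, U.unop) => z.1) (map_add (Mero.toK X U.unop) a b)).trans rfl) }
      naturality := fun {U V} i => by
        refine AddCommGrpCat.ext fun (r : Γ(X, U.unop)) => Subtype.ext (funext fun y => ?_)
        show (Mero.toK X V.unop (X.presheaf.map i r)).1 y = (Mero.toK X U.unop r).1 ⟨y.1, i.unop.le y.2⟩
        rw [toK_apply_eq, toK_apply_eq]
        exact congrArg _ (X.presheaf.germ_res_apply i.unop y.1 y.2 r) }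
    (fun U (a : Γ(X, U.unop)) (r : Γ(X, U.unop)) => Subtype.ext (funext fun y => by
      show (Mero.toK X U.unop (a * r)).1 y = X.presheaf.germ U.unop y.1 y.2 a • (Mero.toK X U.unop r).1 y
      rw [toK_apply_eq, toK_apply_eq, Algebra.smul_def, map_mul, map_mul]))⟩

theorem oneHom_app_injective {E : Mero.Divisor X} (hE : Mero.IsEffective E) (U : X.Opens) :
    Function.Injective ((oneHom hE).app U) := fun a b h => by
  refine toK_injective U (kmod_ext fun y => ?_)
  exact congrArg (fun t : Γ(Mero.divMod E, U) => t.1 y) h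

theorem stalkLin_oneHom_bijective {E : Mero.Divisor X} (hE : Mero.IsEffective E) (hs : IsClosed {x : X | E.1 x ≠ 1})
    {x : X} (hx : E.1 x = 1) :
    Function.Bijective (stalkLin (oneHom hE) x) := by
  constructor
  · refine (injective_iff_map_eq_zero _).2 fun v hv => ?_
    obtain ⟨U, hU, r, rfl⟩ := TopCat.Presheaf.exists_germ_eq (Coh.structureModule X).presheaf v
    rw [QCoh.stalkLin_germ] at hv
    obtain ⟨W, hW, iU, iV, h⟩ := TopCat.Presheaf.germ_eq (Mero.divMod E).presheaf x hU hU _ 0
      (hv.trans (map_zero _).symm)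
    rw [map_zero] at h
    refine (TopCat.Presheaf.germ_res_apply (Coh.structureModule X).presheaf iU x hW r).symm.trans ?_
    rw [show (Coh.structureModule X).presheaf.map iU.op r = 0 from oneHom_app_injective hE W
      (((Scheme.Modules.Hom.mapPresheaf (oneHom hE)).naturality_apply iU.op r).trans (h.trans (map_zero _).symm))]
    exact map_zero _
  · intro v
    obtain ⟨U, hU, t, rfl⟩ := TopCat.Presheaf.exists_germ_eq (Mero.divMod E).presheaf v
    let W : X.Opens := U ⊓ ⟨{x : X | E.1 x ≠ 1}ᶜ, hs.isOpen_compl⟩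
    have hxW : x ∈ W := ⟨hU, not_not.2 hx⟩
    let t' : Γ(Mero.divMod E, W) := (Mero.divMod E).presheaf.map (homOfLE inf_le_left).op t
    obtain ⟨c, hc⟩ := exists_toK_eq (⟨t'.1, t'.2.1⟩ : Γ(Mero.kmod X, W)) fun y => by
      have h1 : E.1 y.1 = QuotientGroup.mk (1 : (Mero.KStalk X y.1)ˣ) := by
        rw [QuotientGroup.mk_one]; exact not_not.1 y.2.2
      have h2 := (divCond_iff h1 _).1 (t'.2.2 y)
      rwa [Units.val_one, mul_one] at h2
    refine ⟨(Coh.structureModule X).presheaf.germ W x hxW c, ?_⟩
    rw [QCoh.stalkLin_germ]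
    rw [show (oneHom hE).app W c = t' from Subtype.ext (show (Mero.toK X W c).1 = t'.1 from congrArg (fun z : Γ(Mero.kmod X, W) => z.1) hc)]
    exact TopCat.Presheaf.germ_res_apply _ _ _ _ _

theorem mono_oneHom {E : Mero.Divisor X} (hE : Mero.IsEffective E) : Mono (oneHom hE) := by
  refine (OX.mono_iff _).2 fun x => (ModuleCat.mono_iff_injective _).2 ?_
  refine (injective_iff_map_eq_zero (stalkLin (oneHom hE) x)).2 fun v hv => ?_
  obtain ⟨U, hU, r, rfl⟩ := TopCat.Presheaf.exists_germ_eq (Coh.structureModule X).presheaf v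
  rw [QCoh.stalkLin_germ] at hv
  obtain ⟨W, hW, iU, iV, h⟩ := TopCat.Presheaf.germ_eq (Mero.divMod E).presheaf x hU hU _ 0
    (hv.trans (map_zero _).symm)
  rw [map_zero] at h
  refine (TopCat.Presheaf.germ_res_apply (Coh.structureModule X).presheaf iU x hW r).symm.trans ?_
  rw [show (Coh.structureModule X).presheaf.map iU.op r = 0 from oneHom_app_injective hE W
    (((Scheme.Modules.Hom.mapPresheaf (oneHom hE)).naturality_apply iU.op r).trans (h.trans (map_zero _).symm))]
  exact map_zero _

variable (k : Type u) [Field k] [X.Over (Spec (CommRingCat.of k))] [IsProper (X ↘ Spec (CommRingCat.of k))]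

theorem finrank_H0_bounds {S : ShortComplex X.Modules} (hS : S.ShortExact) (h1 : Coh.IsCoh S.X₁)
    (h2 : Coh.IsCoh S.X₂) (h3 : Coh.IsCoh S.X₃) :
    Module.finrank k (Coh.HH X S.X₁ 0) ≤ Module.finrank k (Coh.HH X S.X₂ 0) ∧
      Module.finrank k (Coh.HH X S.X₂ 0) ≤
        Module.finrank k (Coh.HH X S.X₁ 0) + Module.finrank k (Coh.HH X S.X₃ 0) := by
  haveI := Euler.isNoetherian_of_proper (X := X) k
  haveI := Euler.finiteDimensional_HH k h1 0
  haveI := Euler.finiteDimensional_HH k h2 0
  haveI := Euler.finiteDimensional_HH k h3 0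
  have hinj := Euler.hhMap_zero_injective (A := k) hS
  have hex := Cohom.exact₂ (A := k) hS 0
  have h4 := (Cohom.hhMap k S.g 0).finrank_range_add_finrank_ker
  have h5 := Submodule.finrank_le (LinearMap.range (Cohom.hhMap k S.g 0))
  have h6 : Module.finrank k (LinearMap.ker (Cohom.hhMap k S.g 0)) = Module.finrank k (Coh.HH X S.X₁ 0) := by
    rw [LinearMap.exact_iff.1 hex]; exact LinearMap.finrank_range_of_inj hinj
  exact ⟨LinearMap.finrank_le_finrank_of_injective hinj, by omega⟩

/-- The main inequality. -/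
theorem h0_bounds (hC : ∀ x : X, IsClosed ({x} : Set X) → ringKrullDim (X.presheaf.stalk x) = 1)
    (E F : Mero.Divisor X) (hE : Mero.IsEffective E) :
    Module.finrank k (Coh.HH X (Mero.divMod F) 0) ≤ Module.finrank k (Coh.HH X (Mero.divMod (E * F)) 0) ∧
      (Module.finrank k (Coh.HH X (Mero.divMod (E * F)) 0) : ℤ) ≤
        (Module.finrank k (Coh.HH X (Mero.divMod F) 0) : ℤ) + Curv2.deg k X (Mero.divMod E) 1 := by
  haveI := Euler.isNoetherian_of_proper (X := X) k
  haveI := mono_oneHom hE
  have hfin := MeroCurve.finite_supp hC E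
  have hclpt : ∀ x ∈ {x : X | E.1 x ≠ 1}, IsClosed ({x} : Set X) := fun x hx => by
    by_contra h; exact hx (MeroCurve.divisor_eq_one_of_not_closed hC E h)
  have hsc : IsClosed {x : X | E.1 x ≠ 1} := by
    rw [← Set.biUnion_of_singleton {x : X | E.1 x ≠ 1}]; exact hfin.isClosed_biUnion hclpt
  set Q := cokernel (oneHom hE)
  have hsupp : CohB1.support Q ⊆ {x : X | E.1 x ≠ 1} := fun x hx => fun h1 =>
    QCoh.notMem_support_cokernel_of_surjective _ (stalkLin_oneHom_bijective hE hsc h1).2 hx
  have hQf := hfin.subset hsupp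
  have hQc := fun x hx => hclpt x (hsupp hx)
  have hE' := Groth.Agent.S5096.result X E
  have hF := Groth.Agent.S5096.result X F
  have hO : Coh.IsCoh (Coh.structureModule X) := Euler.isCoh_of_isInvertible Euler.isInvertible_structure
  have hEc := Euler.isCoh_of_isInvertible hE'
  have hQ : Coh.IsCoh Q := QCoh.isCoh_cokernel _ hO hEc
  have hF1 := Euler.isFinLocFreeOfRank_one' hF
  have hlf := FinCov.isFinLocFree_of_rank hF1
  let S := ShortComplex.mk (oneHom hE) (cokernel.π (oneHom hE)) (cokernel.condition _)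
  have hS : S.ShortExact := { exact := ShortComplex.exact_of_g_is_cokernel _ (cokernelIsCokernel _) }
  have hT := OX.tensor_map_shortExact (OX.flat_of_isFinLocFree hlf) hS
  have e1 : (tF (Mero.divMod F)).obj (Coh.structureModule X) ≅ Mero.divMod F := OX.tensorUnitLeftIso _
  haveI := isIso_mulPairing E F
  have e2 : (tF (Mero.divMod F)).obj (Mero.divMod E) ≅ Mero.divMod (E * F) := asIso (mulPairing E F).hom
  have hdeg : Curv2.deg k X (Mero.divMod E) 1 = Module.finrank k (Coh.HH X ((tF (Mero.divMod F)).obj Q) 0) := by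
    have h1 := Euler.euler_additive k hS hO hEc hQ
    have h2 := Euler.euler_tF_of_finite_support k hF1 hQ hQf hQc
    have h3 := Euler.euler_eq_of_finite_support k ((tF (Mero.divMod F)).obj Q)
      (hQf.subset (Euler.support_tF_subset hF1)) fun x hx => hQc x (Euler.support_tF_subset hF1 hx)
    simp only [S] at h1
    rw [Curv2.deg]
    push_cast at *
    linarith
  have c1 : Coh.IsCoh ((tF (Mero.divMod F)).obj (Coh.structureModule X)) := Euler.isCoh_tF hO hlf
  have c2 : Coh.IsCoh ((tF (Mero.divMod F)).obj (Mero.divMod E)) := Euler.isCoh_tF hEc hlf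
  have c3 : Coh.IsCoh ((tF (Mero.divMod F)).obj Q) := Euler.isCoh_tF hQ hlf
  have key := @finrank_H0_bounds X k _ _ _ _ hT
  obtain ⟨k1, k2⟩ := key c1 c2 c3
  change Module.finrank k (Coh.HH X ((tF (Mero.divMod F)).obj (Coh.structureModule X)) 0) ≤
    Module.finrank k (Coh.HH X ((tF (Mero.divMod F)).obj (Mero.divMod E)) 0) at k1
  change Module.finrank k (Coh.HH X ((tF (Mero.divMod F)).obj (Mero.divMod E)) 0) ≤
    Module.finrank k (Coh.HH X ((tF (Mero.divMod F)).obj (Coh.structureModule X)) 0) +
      Module.finrank k (Coh.HH X ((tF (Mero.divMod F)).obj Q) 0) at k2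
  have h7 := (Euler.hhEquiv (A := k) e1 0).finrank_eq
  have h8 := (Euler.hhEquiv (A := k) e2 0).finrank_eq
  exact ⟨by omega, by rw [hdeg]; omega⟩

end GrothLib.DivCurve2
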