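import Groth.Agent.Lib.Mero.ZeroDiv
import Groth.Agent.Lib.Mero.Sections
import Groth.Agent.Lib.RegLoc.Basic

/-!
# The divisor of a regular closed point of codimension one
-/

set_option autoImplicit false
set_option linter.all false
set_option maxHeartbeats 1000000

universe u

open CategoryTheory CategoryTheory.Limits AlgebraicGeometry TopologicalSpace Opposite

noncomputable section

namespace GrothLib.DivCurve2

open GrothLib.Mero GrothLib.Mero.Zero

theorem exists_maximalIdeal_span {R : Type u} [CommRing R] [IsRegularLocalRing R] (h : ringKrullDim R = 1) :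
    ∃ π : R, IsLocalRing.maximalIdeal R = Ideal.span {π} ∧ π ∈ nonZeroDivisors R := by
  obtain ⟨z, hz⟩ := RegLoc.exists_generators_fin (IsLocalRing.maximalIdeal R)
  have hd : (IsLocalRing.maximalIdeal R).spanFinrank = 1 := by
    have := IsRegularLocalRing.spanFinrank_maximalIdeal (R := R)
    rw [h] at this
    exact_mod_cast this
  let z' : Fin 1 → R := z ∘ (finCongr hd.symm)
  have hz' : Ideal.span (Set.range z') = IsLocalRing.maximalIdeal R := by
    rw [show Set.range z' = Set.range z from (finCongr hd.symm).surjective.range_comp z]; exact hz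
  refine ⟨z' 0, by rw [← hz', Set.range_unique]; rfl, ?_⟩
  have hr := (RegLoc.isRegular_ofFn 1 h z' hz').toIsWeaklyRegular
  rw [List.ofFn_succ, List.ofFn_zero, RingTheory.Sequence.isWeaklyRegular_cons_iff] at hr
  exact mem_nonZeroDivisors_iff_right.2 fun r hr' => hr.1 (by
    show z' 0 • r = z' 0 • (0 : R)
    rw [smul_eq_mul, smul_eq_mul, mul_zero, mul_comm]; exact hr')

variable {X : Scheme.{u}} {x : X} (hx : IsClosed ({x} : Set X))

/-- The ideal of the point. -/
abbrev ptIdeal : X.IdealSheafData := Scheme.IdealSheafData.vanishingIdeal (⟨{x}, hx⟩ : Closeds X)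

theorem mem_ptIdeal_iff (U : X.affineOpens) (a : Γ(X, U.1)) :
    a ∈ (ptIdeal hx).ideal U ↔ ∀ hxU : x ∈ U.1, ¬ IsUnit (X.presheaf.germ U.1 x hxU a) := by
  change a ∈ PrimeSpectrum.vanishingIdeal (U.2.fromSpec ⁻¹' {x}) ↔ _
  rw [PrimeSpectrum.mem_vanishingIdeal]
  constructor
  · intro h hxU hu
    obtain ⟨v, hv⟩ : ∃ v, U.2.fromSpec v = x := by
      have : x ∈ Set.range U.2.fromSpec := by rw [U.2.range_fromSpec]; exact hxU
      exact this
    have h1 : v ∈ U.2.fromSpec ⁻¹ᵁ X.basicOpen a := by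
      show U.2.fromSpec v ∈ X.basicOpen a
      rw [hv, Scheme.mem_basicOpen _ _ _ hxU]; exact hu
    rw [U.2.fromSpec_preimage_basicOpen a] at h1
    exact h1 (h v hv)
  · intro h v hv
    have hxU : x ∈ U.1 := by
      rw [← SetLike.mem_coe, ← U.2.range_fromSpec]; exact ⟨v, hv⟩
    by_contra hne
    have h1 : v ∈ U.2.fromSpec ⁻¹ᵁ X.basicOpen a := by
      rw [U.2.fromSpec_preimage_basicOpen a]; exact hne
    refine h hxU ((Scheme.mem_basicOpen _ _ _ hxU).1 ?_)
    rw [← (show U.2.fromSpec v = x from hv)]; exact h1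

theorem isUnit_germ_of_gen (U : X.affineOpens) {a : Γ(X, U.1)} (hU : (ptIdeal hx).ideal U = Ideal.span {a})
    {y : X} (hy : y ∈ U.1) (hne : y ≠ x) : IsUnit (X.presheaf.germ U.1 y hy a) := by
  by_contra h
  refine hne ?_
  have h1 : y ∈ X.zeroLocus (U := U.1) ((ptIdeal hx).ideal U) ∩ (U.1 : Set X) := by
    refine ⟨?_, hy⟩
    rw [hU, Scheme.zeroLocus_span, Scheme.mem_zeroLocus_iff]
    rintro f rfl hf
    exact h ((Scheme.mem_basicOpen _ _ _ hy).1 hf)
  rw [← Scheme.IdealSheafData.coe_support_inter] at h1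
  have h2 := h1.1
  rwa [Scheme.IdealSheafData.coe_support_vanishingIdeal] at h2

theorem mem_germ_maximal_of_gen (U : X.affineOpens) {a : Γ(X, U.1)} (hU : (ptIdeal hx).ideal U = Ideal.span {a})
    (hxU : x ∈ U.1) : X.presheaf.germ U.1 x hxU a ∈ IsLocalRing.maximalIdeal (X.presheaf.stalk x) :=
  (mem_ptIdeal_iff hx U a).1 (hU.ge (Ideal.mem_span_singleton_self a)) hxU

theorem maximal_eq_span (U : X.affineOpens) {a : Γ(X, U.1)} (hU : (ptIdeal hx).ideal U = Ideal.span {a})
    (hxU : x ∈ U.1) : IsLocalRing.maximalIdeal (X.presheaf.stalk x) = Ideal.span {X.presheaf.germ U.1 x hxU a} := by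
  refine le_antisymm (fun z hz => ?_) ((Ideal.span_singleton_le_iff_mem _).2 (mem_germ_maximal_of_gen hx U hU hxU))
  haveI := U.2.isLocalization_stalk ⟨x, hxU⟩
  letI : Algebra Γ(X, U.1) (X.presheaf.stalk x) := TopCat.Presheaf.algebra_section_stalk X.presheaf ⟨x, hxU⟩
  obtain ⟨⟨r, s⟩, hrs⟩ := IsLocalization.surj (U.2.primeIdealOf ⟨x, hxU⟩).asIdeal.primeCompl z
  change z * X.presheaf.germ U.1 x hxU (s : Γ(X, U.1)) = X.presheaf.germ U.1 x hxU r at hrs
  have hs : IsUnit (X.presheaf.germ U.1 x hxU (s : Γ(X, U.1))) :=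
    IsLocalization.map_units (X.presheaf.stalk x) s
  have hr : r ∈ (ptIdeal hx).ideal U := (mem_ptIdeal_iff hx U r).2 fun _ => by
    have : X.presheaf.germ U.1 x hxU r ∈ IsLocalRing.maximalIdeal (X.presheaf.stalk x) :=
      hrs ▸ Ideal.mul_mem_right _ _ hz
    exact this
  rw [hU, Ideal.mem_span_singleton] at hr
  obtain ⟨c, rfl⟩ := hr
  rw [map_mul] at hrs
  rw [Ideal.mem_span_singleton]
  exact (hs.dvd_mul_right).1 (hrs ▸ dvd_mul_right _ _)

theorem exists_chart [IsLocallyNoetherian X] (hreg : IsRegularLocalRing (X.presheaf.stalk x))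
    (hdim : ringKrullDim (X.presheaf.stalk x) = 1) (y : X) :
    ∃ (U : X.affineOpens) (_ : y ∈ U.1) (a : Γ(X, U.1)), a ∈ Mero.regSub X U.1 ∧
      (ptIdeal hx).ideal U = Ideal.span {a} := by
  by_cases hy : y = x
  · subst hy
    haveI := hreg
    obtain ⟨π, hπ, hπ0⟩ := exists_maximalIdeal_span hdim
    obtain ⟨T, hT, b, hb⟩ := TopCat.Presheaf.exists_germ_eq X.presheaf π
    obtain ⟨U, hyU, hUT⟩ := GrothLib.BlowUp.exists_affine_mem_le hT
    set a : Γ(X, U.1) := X.presheaf.map (homOfLE hUT).op b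
    have ha : X.presheaf.germ U.1 y hyU a = π := (TopCat.Presheaf.germ_res_apply _ _ _ _ _).trans hb
    haveI : IsNoetherianRing Γ(X, U.1) := IsLocallyNoetherian.component_noetherian U
    obtain ⟨S, hS⟩ := ((ptIdeal hx).ideal U).fg_of_isNoetherianRing
    have hwit : ∀ g ∈ S, ∃ (W : X.Opens) (_ : y ∈ W) (hW : W ≤ U.1) (r : Γ(X, W)),
        X.presheaf.map (homOfLE hW).op g = r * X.presheaf.map (homOfLE hW).op a := by
      intro g hg
      have h1 : X.presheaf.germ U.1 y hyU g ∈ IsLocalRing.maximalIdeal (X.presheaf.stalk y) :=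
        (mem_ptIdeal_iff hx U g).1 (hS.le (Ideal.subset_span hg)) hyU
      rw [hπ, Ideal.mem_span_singleton'] at h1
      obtain ⟨r, hr⟩ := h1
      obtain ⟨T', hT', r', rfl⟩ := TopCat.Presheaf.exists_germ_eq X.presheaf r
      have h2 : X.presheaf.germ (T' ⊓ U.1) y ⟨hT', hyU⟩ (X.presheaf.map (homOfLE inf_le_right).op g) =
          X.presheaf.germ (T' ⊓ U.1) y ⟨hT', hyU⟩ (X.presheaf.map (homOfLE inf_le_left).op r' *
            X.presheaf.map (homOfLE inf_le_right).op a) := by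
        rw [map_mul]
        refine (TopCat.Presheaf.germ_res_apply _ _ _ _ _).trans (hr.symm.trans ?_)
        exact congrArg₂ (· * ·) (TopCat.Presheaf.germ_res_apply _ _ _ _ _).symm
          ((TopCat.Presheaf.germ_res_apply _ _ _ _ _).trans ha).symm
      obtain ⟨W, hW, i₁, i₂, h⟩ := TopCat.Presheaf.germ_eq X.presheaf y _ _ _ _ h2
      refine ⟨W, hW, i₁.le.trans inf_le_right, X.presheaf.map (homOfLE (i₁.le.trans inf_le_left)).op r', ?_⟩
      change X.presheaf.map i₁.op (X.presheaf.map (homOfLE inf_le_right).op g) =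
        X.presheaf.map i₂.op _ at h
      rw [map_mul] at h
      simp only [← CommRingCat.comp_apply, ← Functor.map_comp, ← op_comp] at h
      exact h
    choose W hyW hWU r hr using hwit
    obtain ⟨f, hfW, hyf⟩ := U.2.exists_basicOpen_le (V := U.1 ⊓ S.attach.inf fun g => W g.1 g.2)
      ⟨y, hyU, (show y ∈ S.attach.inf fun g => W g.1 g.2 from
        (Finset.inf_induction (p := fun O : X.Opens => y ∈ O) trivial (fun _ h _ h' => ⟨h, h'⟩) fun g _ => hyW g.1 g.2))⟩ hyU
    set V := X.affineBasicOpen f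
    set a' : Γ(X, V.1) := X.presheaf.map (homOfLE (X.basicOpen_le f)).op a
    have hVI : (ptIdeal hx).ideal V = Ideal.span {a'} := by
      refine le_antisymm ?_ ((Ideal.span_singleton_le_iff_mem _).2 ((mem_ptIdeal_iff hx V a').2 fun hV => ?_))
      · have h1 := (ptIdeal hx).map_ideal_basicOpen U f
        rw [← h1, ← hS, Ideal.map_span]
        refine Ideal.span_le.2 ?_
        rintro _ ⟨g, hg, rfl⟩
        have hVW : V.1 ≤ W g hg := hfW.trans (inf_le_right.trans (Finset.inf_le (Finset.mem_attach S ⟨g, hg⟩)))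
        have h2 := congrArg (X.presheaf.map (homOfLE hVW).op) (hr g hg)
        rw [map_mul] at h2
        simp only [← CommRingCat.comp_apply, ← Functor.map_comp, ← op_comp] at h2
        exact Ideal.mem_span_singleton'.2 ⟨_, h2.symm⟩
      · show ¬ IsUnit (X.presheaf.germ _ y hV (X.presheaf.map _ a))
        erw [TopCat.Presheaf.germ_res_apply]
        rw [ha]
        exact fun hu => (show π ∈ IsLocalRing.maximalIdeal _ from hπ ▸ Ideal.mem_span_singleton_self π) hu
    refine ⟨V, hyf, a', fun z => ?_, hVI⟩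
    by_cases hz : z.1 = y
    · obtain ⟨z, hzV⟩ := z
      subst hz
      show X.presheaf.germ _ z hzV (X.presheaf.map _ a) ∈ nonZeroDivisors _
      erw [TopCat.Presheaf.germ_res_apply]
      rw [ha]; exact hπ0
    · exact (isUnit_germ_of_gen hx V hVI z.2 hz).mem_nonZeroDivisors
  · obtain ⟨U, hyU, hU⟩ := GrothLib.BlowUp.exists_affine_mem_le (W := (⟨{x}ᶜ, hx.isOpen_compl⟩ : X.Opens)) hy
    refine ⟨U, hyU, 1, Submonoid.one_mem _, ?_⟩
    rw [Ideal.span_singleton_one, eq_top_iff]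
    exact fun a _ => (mem_ptIdeal_iff hx U a).2 fun hxU => absurd rfl (hU hxU)

theorem exists_divisor [IsLocallyNoetherian X] (hreg : IsRegularLocalRing (X.presheaf.stalk x))
    (hdim : ringKrullDim (X.presheaf.stalk x) = 1) :
    ∃ P : Mero.Divisor X, Mero.IsDivOfIdeal P (ptIdeal hx) := by
  choose U hU a ha hI using exists_chart hx hreg hdim
  refine ⟨⟨fun y => classOf (Mero.regGerm ⟨y, hU y⟩ ⟨a y, ha y⟩), fun y => ?_⟩, fun y => ?_⟩
  · refine ⟨(U y).1, hU y, (isUnit_toK _ (ha y)).unit, fun z => ?_⟩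
    show classOf _ = _
    rw [classOf_eq_of_ideal (ha z.1) (ha y) (hI z.1) (hI y) (hU z.1) z.2]
    refine congrArg QuotientGroup.mk (Units.ext ?_)
    rw [IsUnit.unit_spec]
    exact (toK_apply_eq (a y) z).symm
  · exact ⟨U y, hU y, a y, ha y, hI y, fun z =>
      classOf_eq_of_ideal (ha z.1) (ha y) (hI z.1) (hI y) (hU z.1) z.2⟩

theorem divisor_at {P : Mero.Divisor X} (hP : Mero.IsDivOfIdeal P (ptIdeal hx)) :
    (∃ a : Mero.regStalk X x, IsLocalRing.maximalIdeal (X.presheaf.stalk x) = Ideal.span {(a : X.presheaf.stalk x)} ∧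
      P.1 x = classOf a) ∧ ∀ y : X, y ≠ x → P.1 y = 1 := by
  constructor
  · obtain ⟨U, hxU, a, ha, hI, hPa⟩ := hP x
    exact ⟨Mero.regGerm ⟨x, hxU⟩ ⟨a, ha⟩, maximal_eq_span hx U hI hxU, hPa ⟨x, hxU⟩⟩
  · intro y hne
    obtain ⟨U, hyU, a, ha, hI, hPa⟩ := hP y
    refine (hPa ⟨y, hyU⟩).trans ((QuotientGroup.eq_one_iff _).2 ?_)
    exact ⟨(isUnit_germ_of_gen hx U hI hyU hne).unit, Units.ext (by rw [IsUnit.unit_spec]; rfl)⟩

theorem isEffective_point {P : Mero.Divisor X} (hP : Mero.IsDivOfIdeal P (ptIdeal hx)) : Mero.IsEffective P := fun y => by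
  obtain ⟨U, hyU, a, ha, hI, hPa⟩ := hP y
  exact ⟨_, hPa ⟨y, hyU⟩⟩

end GrothLib.DivCurve2
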