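import Groth.Agent.Lib.DivCurve2.Basic
import Groth.Agent.Lib.DivCurve2.Point
import Groth.Agent.Lib.CurveMult.GGCurve
import Groth.Agent.Lib.InvDual.Basic
import Groth.Agent.Lib.NegTwist.H0

/-!
# Global generation of `O_X(D)` and the drop of `h⁰`
-/

set_option autoImplicit false
set_option linter.all false
set_option backward.isDefEq.respectTransparency false
set_option maxHeartbeats 1000000

universe u

open CategoryTheory CategoryTheory.Limits AlgebraicGeometry TopologicalSpace Opposite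

noncomputable section

namespace GrothLib.DivCurve2

open GrothLib.Mero GrothLib.Mero.Zero

variable {X : Scheme.{u}} {D D' : Mero.Divisor X}

/-- The inclusion `O(D') ⊆ O(D)`. -/
def incl (h : ∀ (y : X) t, Mero.DivCond D' y t → Mero.DivCond D y t) : Mero.divMod D' ⟶ Mero.divMod D :=
  ⟨PresheafOfModules.homMk (M₁ := (Mero.divMod D').val) (M₂ := (Mero.divMod D).val)
    { app := fun U => AddCommGrpCat.ofHom
        { toFun := fun (f : Γ(Mero.divMod D', U.unop)) =>
            (⟨f.1, f.2.1, fun y => h _ _ (f.2.2 y)⟩ : Γ(Mero.divMod D, U.unop))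
          map_zero' := rfl
          map_add' := fun _ _ => rfl }
      naturality := by intros; rfl }
    (fun _ _ _ => rfl)⟩

theorem mono_incl (h : ∀ (y : X) t, Mero.DivCond D' y t → Mero.DivCond D y t) : Mono (incl h) :=
  QCoh.mono_of_app_injective _ fun U a b hab =>
    Subtype.ext (congrArg (fun t : Γ(Mero.divMod D, U) => t.1) hab)

/-- `σ` generates `O(D)` at `y`. -/
def IsGenAt (σ : Γ(Mero.divMod D, ⊤)) (y : X) : Prop :=
  ∃ (g : (Mero.KStalk X y)ˣ) (c : X.presheaf.stalk y), D.1 y = QuotientGroup.mk g ∧ IsUnit c ∧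
    algebraMap _ (Mero.KStalk X y) c = σ.1 ⟨y, trivial⟩ * g

theorem isGenAt_of_rep {σ : Γ(Mero.divMod D, ⊤)} {y : X} (h : IsGenAt σ y) {g : (Mero.KStalk X y)ˣ}
    (hg : D.1 y = QuotientGroup.mk g) {c : X.presheaf.stalk y}
    (hc : algebraMap _ (Mero.KStalk X y) c = σ.1 ⟨y, trivial⟩ * g) : IsUnit c := by
  obtain ⟨g', c', hg', hu, hc'⟩ := h
  obtain ⟨v, hv⟩ := QuotientGroup.eq.mp (hg'.symm.trans hg)
  have hv' : algebraMap _ (Mero.KStalk X y) (v : X.presheaf.stalk y) =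
      (↑g'⁻¹ : Mero.KStalk X y) * g := by
    rw [← Units.val_mul, ← hv]; rfl
  have : algebraMap _ (Mero.KStalk X y) c = algebraMap _ (Mero.KStalk X y) (c' * v) := by
    rw [map_mul, hc', hv', hc, mul_assoc (σ.1 _), Units.mul_inv_cancel_left]
  rw [Mero.algebraMap_KStalk_injective y this]
  exact hu.mul v.isUnit

theorem exists_coeff (σ : Γ(Mero.divMod D, ⊤)) {U : X.Opens} (f : (Γ(Mero.kmod X, U))ˣ)
    (hf : ∀ y : U, D.1 y.1 = Mero.germOf f y) {y : X} (hy : y ∈ U) :
    ∃ c : X.presheaf.stalk y,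
      (Mero.divMod D).presheaf.germ ⊤ y trivial σ = c • (Mero.divMod D).presheaf.germ U y hy (divGen f hf) ∧
      algebraMap _ (Mero.KStalk X y) c = σ.1 ⟨y, trivial⟩ * (f : Γ(Mero.kmod X, U)).1 ⟨y, hy⟩ := by
  obtain ⟨c, hc⟩ := ((isGen_divGen f hf) U le_rfl).2 (GrothLib.InvExt.mres (Mero.divMod D) (le_top : U ≤ ⊤) σ)
  refine ⟨X.presheaf.germ U y hy c, ?_, ?_⟩
  · have h1 := congrArg ((Mero.divMod D).presheaf.germ U y hy) hc
    rw [Mero.germ_smul, GrothLib.InvExt.mres_self] at h1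
    refine Eq.trans ?_ h1.symm
    exact (TopCat.Presheaf.germ_res_apply (Mero.divMod D).presheaf _ y hy σ).symm
  · have h1 : X.presheaf.germ U y hy c • (↑f⁻¹ : Γ(Mero.kmod X, U)).1 ⟨y, hy⟩ = σ.1 ⟨y, trivial⟩ :=
      congrArg (fun t : Γ(Mero.divMod D, U) => t.1 ⟨y, hy⟩) hc
    rw [← h1, Algebra.smul_def, mul_assoc, ← Mero.kmod_mul_apply, Units.inv_mul, Mero.kmod_one_apply, mul_one]

/-- Global generation means a generator at every point. -/
theorem gg_iff : Curv2.IsGloballyGenerated (Mero.divMod D) ↔ ∀ y : X, ∃ σ : Γ(Mero.divMod D, ⊤), IsGenAt σ y := by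
  constructor
  · intro h y
    obtain ⟨U, hy, f, hf⟩ := D.2 y
    have hsp := CurveMult.stalkSpanned_of_isGloballyGenerated h y
    set e := (Mero.divMod D).presheaf.germ U y hy (divGen f hf)
    by_contra hne
    push Not at hne
    have hle : UnifVanish7.spanGlobal (Mero.divMod D) y ≤
        Submodule.map (LinearMap.toSpanSingleton (X.presheaf.stalk y) _ e)
          (IsLocalRing.maximalIdeal (X.presheaf.stalk y)) := by
      rw [Submodule.span_le]
      rintro _ ⟨σ, rfl⟩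
      obtain ⟨c, hc, hc'⟩ := exists_coeff σ f hf hy
      exact ⟨c, fun hu => hne σ ⟨Units.map (Mero.evalK X U ⟨y, hy⟩).toMonoidHom f, c, hf ⟨y, hy⟩, hu, hc'⟩,
        hc.symm⟩
    obtain ⟨m, hm, hme⟩ := hle (hsp.symm ▸ Submodule.mem_top : e ∈ UnifVanish7.spanGlobal (Mero.divMod D) y)
    have h0 : (m - 1) • e = 0 := by
      rw [sub_smul, one_smul, sub_eq_zero]; exact hme
    have hm1 := sub_eq_zero.1 (InvDual.smul_germ_injective (isGen_divGen f hf) hy h0)
    exact (IsLocalRing.maximalIdeal.isMaximal _).ne_top ((Ideal.eq_top_iff_one _).2 (hm1 ▸ hm))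
  · intro h
    refine UnifVanish7.StalkSpanned.isGloballyGenerated fun y => eq_top_iff.2 ?_
    obtain ⟨σ, hσ⟩ := h y
    obtain ⟨U, hy, f, hf⟩ := D.2 y
    obtain ⟨c, hc, hc'⟩ := exists_coeff σ f hf hy
    have hu := isGenAt_of_rep hσ (g := Units.map (Mero.evalK X U ⟨y, hy⟩).toMonoidHom f) (hf ⟨y, hy⟩) hc'
    rw [← InvDual.genOn (isGen_divGen f hf) y hy, Submodule.span_le]
    rintro _ ⟨-, rfl⟩
    have : (↑hu.unit⁻¹ : X.presheaf.stalk y) • (Mero.divMod D).presheaf.germ ⊤ y trivial σ =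
        (Mero.divMod D).presheaf.germ U y hy (divGen f hf) := by
      rw [hc, smul_smul, IsUnit.val_inv_mul, one_smul]
    show (Mero.divMod D).presheaf.germ U y hy (divGen f hf) ∈ UnifVanish7.spanGlobal (Mero.divMod D) y
    rw [← this]
    exact Submodule.smul_mem _ _ (Submodule.subset_span ⟨σ, rfl⟩)

theorem exists_isGenAt_of_notMem (hD : Mero.IsEffective D) {y : X} (hy : D.1 y = 1) :
    ∃ σ : Γ(Mero.divMod D, ⊤), IsGenAt σ y := by
  refine ⟨(oneHom hD).app ⊤ (1 : Γ(X, ⊤)), 1, 1, hy.trans (QuotientGroup.mk_one _).symm, isUnit_one, ?_⟩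
  show _ = (Mero.toK X ⊤ (1 : Γ(X, ⊤))).1 ⟨y, trivial⟩ * _
  rw [toK_apply_eq, Units.val_one, mul_one]
  exact congrArg _ (map_one (X.presheaf.germ ⊤ y trivial).hom).symm

theorem inv_div_apply {P : Mero.Divisor X} (D : Mero.Divisor X) {x : X}
    (hP1 : ∀ y : X, y ≠ x → P.1 y = 1) {y : X} (hy : y ≠ x) : (D * P⁻¹).1 y = D.1 y := by
  show D.1 y * (P.1 y)⁻¹ = _
  rw [hP1 y hy]
  exact (congrArg (D.1 y * ·) inv_one).trans (mul_one (D.1 y))

variable {x : X} {P : Mero.Divisor X} {a : Mero.regStalk X x}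

theorem div_apply_pt (hPa : P.1 x = classOf a) (D : Mero.Divisor X) {g : (Mero.KStalk X x)ˣ}
    (hg : D.1 x = QuotientGroup.mk g) :
    (D * P⁻¹).1 x = QuotientGroup.mk (g * (IsLocalization.map_units (Mero.KStalk X x) a).unit⁻¹) := by
  show D.1 x * (P.1 x)⁻¹ = _
  rw [hg, hPa, QuotientGroup.mk_mul, QuotientGroup.mk_inv]
  rfl

theorem divCond_of_sub (hPa : P.1 x = classOf a) (hP1 : ∀ y : X, y ≠ x → P.1 y = 1) (D : Mero.Divisor X)
    (y : X) (t : Mero.KStalk X y) (ht : Mero.DivCond (D * P⁻¹) y t) : Mero.DivCond D y t := by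
  obtain ⟨g, hg⟩ := QuotientGroup.mk_surjective (D.1 y)
  rw [divCond_iff hg.symm]
  by_cases hy : y = x
  · subst hy
    have h1 := (divCond_iff (div_apply_pt hPa D hg.symm) _).1 ht
    set A := (IsLocalization.map_units (Mero.KStalk X y) a).unit with hAdef
    have h2 : t * (g : Mero.KStalk X y) = t * ((g * A⁻¹ : (Mero.KStalk X y)ˣ) : Mero.KStalk X y) * (A : Mero.KStalk X y) := by
      rw [Units.val_mul, mul_assoc, mul_assoc, Units.inv_mul, mul_one]
    rw [h2]
    exact mul_mem h1 ⟨(a : X.presheaf.stalk y), (IsUnit.unit_spec _).symm⟩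
  · exact (divCond_iff ((inv_div_apply D hP1 hy).trans hg.symm) _).1 ht

theorem range_incl_iff (hPa : P.1 x = classOf a) (hP1 : ∀ y : X, y ≠ x → P.1 y = 1)
    (hmax : IsLocalRing.maximalIdeal (X.presheaf.stalk x) = Ideal.span {(a : X.presheaf.stalk x)})
    (σ : Γ(Mero.divMod D, ⊤)) :
    (∃ τ, (incl (divCond_of_sub hPa hP1 D)).app ⊤ τ = σ) ↔ ¬ IsGenAt σ x := by
  obtain ⟨g, hg⟩ := QuotientGroup.mk_surjective (D.1 x)
  obtain ⟨c, hc⟩ := (divCond_iff hg.symm _).1 (σ.2.2 ⟨x, trivial⟩)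
  constructor
  · rintro ⟨τ, rfl⟩ hgen
    obtain ⟨d, hd⟩ := (divCond_iff (div_apply_pt hPa D hg.symm) _).1 (τ.2.2 ⟨x, trivial⟩)
    have hcd : c = d * (a : X.presheaf.stalk x) := Mero.algebraMap_KStalk_injective x (by
      refine hc.trans (Eq.symm ((map_mul _ _ _).trans ?_))
      refine (congrArg₂ (· * ·) hd (IsUnit.unit_spec (IsLocalization.map_units (Mero.KStalk X x) a)).symm).trans ?_
      rw [Units.val_mul, mul_assoc, mul_assoc, Units.inv_mul, mul_one]
      rfl)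
    have hu := isGenAt_of_rep hgen hg.symm hc
    rw [hcd] at hu
    exact (hmax.symm ▸ Ideal.mem_span_singleton_self (a : X.presheaf.stalk x) :
      (a : X.presheaf.stalk x) ∈ IsLocalRing.maximalIdeal (X.presheaf.stalk x)) (isUnit_of_mul_isUnit_right hu)
  · intro hgen
    have hcm : c ∈ IsLocalRing.maximalIdeal (X.presheaf.stalk x) := fun hu => hgen ⟨g, c, hg.symm, hu, hc⟩
    rw [hmax, Ideal.mem_span_singleton'] at hcm
    obtain ⟨d, hd⟩ := hcm
    refine ⟨(⟨σ.1, σ.2.1, fun y => ?_⟩ : Γ(Mero.divMod (D * P⁻¹), ⊤)), rfl⟩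
    obtain ⟨y, hyt⟩ := y
    by_cases hy : y = x
    · subst hy
      refine (divCond_iff (div_apply_pt hPa D hg.symm) _).2 ⟨d, ?_⟩
      rw [← hd, map_mul] at hc
      replace hc := (congrArg (algebraMap _ _ d * ·) (IsUnit.unit_spec (IsLocalization.map_units (Mero.KStalk X y) a))).trans hc
      rw [Units.val_mul, ← mul_assoc]
      exact (Units.eq_mul_inv_iff_mul_eq _).2 hc
    · obtain ⟨g', hg'⟩ := QuotientGroup.mk_surjective (D.1 y)
      exact (divCond_iff ((inv_div_apply D hP1 hy).trans hg'.symm) _).2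
        ((divCond_iff hg'.symm _).1 (σ.2.2 ⟨y, hyt⟩))

variable (k : Type u) [Field k] [X.Over (Spec (CommRingCat.of k))] [IsProper (X ↘ Spec (CommRingCat.of k))]

theorem finrank_lt_iff {S : ShortComplex X.Modules} (hS : S.ShortExact) (hM : Coh.IsCoh S.X₁) (hN : Coh.IsCoh S.X₂) :
    Module.finrank k (Coh.HH X S.X₁ 0) < Module.finrank k (Coh.HH X S.X₂ 0) ↔
      ∃ σ : Γ(S.X₂, ⊤), ¬ ∃ τ, S.f.app ⊤ τ = σ := by
  haveI := Euler.isNoetherian_of_proper (X := X) k
  haveI := Euler.finiteDimensional_HH k hM 0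
  haveI := Euler.finiteDimensional_HH k hN 0
  have hF := Euler.hhMap_zero_injective (A := k) hS
  constructor
  · intro hlt
    by_contra hne
    push Not at hne
    have hsurj : Function.Surjective (Cohom.hhMap k S.f 0) := fun q => by
      obtain ⟨τ, hτ⟩ := hne (ProjCoh.H0top _ q)
      refine ⟨(ProjCoh.H0top _).symm τ, (ProjCoh.H0top _).injective ?_⟩
      rw [NegTwist.H0top_hhMap, AddEquiv.apply_symm_apply, hτ]
    exact absurd (LinearEquiv.ofBijective _ ⟨hF, hsurj⟩).finrank_eq hlt.ne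
  · rintro ⟨σ, hσ⟩
    refine lt_of_le_of_ne (LinearMap.finrank_le_finrank_of_injective hF) fun heq => ?_
    obtain ⟨q, hq⟩ := (LinearMap.injective_iff_surjective_of_finrank_eq_finrank heq).1 hF ((ProjCoh.H0top _).symm σ)
    refine hσ ⟨ProjCoh.H0top _ q, ?_⟩
    rw [← NegTwist.H0top_hhMap (k := k), hq, AddEquiv.apply_symm_apply]

/-- The drop at a regular closed point. -/
theorem drop_iff {x : X} (hx : IsClosed ({x} : Set X)) (D P : Mero.Divisor X)
    (hP : Mero.IsDivOfIdeal P (ptIdeal hx)) :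
    Module.finrank k (Coh.HH X (Mero.divMod (D * P⁻¹)) 0) < Module.finrank k (Coh.HH X (Mero.divMod D) 0) ↔
      ∃ σ : Γ(Mero.divMod D, ⊤), IsGenAt σ x := by
  obtain ⟨⟨a, hmax, hPa⟩, hP1⟩ := divisor_at hx hP
  haveI := mono_incl (divCond_of_sub hPa hP1 D)
  haveI := Euler.isNoetherian_of_proper (X := X) k
  have hS : (ShortComplex.mk (incl (divCond_of_sub hPa hP1 D)) _ (cokernel.condition _)).ShortExact :=
    { exact := ShortComplex.exact_of_g_is_cokernel _ (cokernelIsCokernel _) }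
  refine (finrank_lt_iff k hS (Euler.isCoh_of_isInvertible (Groth.Agent.S5096.result X (D * P⁻¹)))
    (Euler.isCoh_of_isInvertible (Groth.Agent.S5096.result X D))).trans ?_
  exact exists_congr fun σ => (not_congr (range_incl_iff hPa hP1 hmax σ)).trans not_not

end GrothLib.DivCurve2
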